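import Cfsg.Agent.H865.EE.Base

/-!
# S3384, piece R: rescaling four roots by powers of `w8` (helper799)
-/

set_option autoImplicit false

namespace Cfsg.Agent.H799.EE

open Cfsg.Agent.H865.EE

theorem root_act {a : Fin 8 → ℤ} (ha : Rt a) (v : W8) : Rt (act v a) := ha.act v

theorem w8_root {a : Fin 8 → ℤ} (ha : Rt a) : Rt (act w8 a) := root_act ha w8

/-- `w8` is skew for the form -/
theorem bf_w8_left (x y : Fin 8 → ℤ) : bf (act w8 x) y = -bf x (act w8 y) := by
  have h := bf_act w8 x (act w8 y)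
  rw [w8_sq, bf_neg_right] at h
  omega

theorem bf_w8_w8 (x y : Fin 8 → ℤ) : bf (act w8 x) (act w8 y) = bf x y := bf_act w8 x y

theorem bf_self_w8 (x : Fin 8 → ℤ) : bf x (act w8 x) = 0 := by
  have h := bf_w8_left x x
  rw [bf_comm] at h
  omega

theorem act_rr {a : Fin 8 → ℤ} (ha : Rt a) (x : Fin 8 → ℤ) :
    act (rr a) x = x - bf x a • a - bf x (act w8 a) • act w8 a := by
  rw [rr, act_mul, act_rf (w8_root ha), act_rf ha, bf_sub_left, bf_smul_left, bf_w8_left, bf_self_w8, neg_zero, mul_zero,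
    sub_zero]
  abel

/-- for roots, `H(a,b)` of absolute value 2 means that `a` and `b` are proportional -/
theorem four_smul {a b : Fin 8 → ℤ} (h : 2 • a = bf a b • b + bf a (act w8 b) • act w8 b)
    (hN : bf a b ^ 2 + bf a (act w8 b) ^ 2 = 4) :
    a = b ∨ a = -b ∨ a = act w8 b ∨ a = -act w8 b := by
  generalize hp : bf a b = p at *
  generalize hq : bf a (act w8 b) = q at *
  have h1 : p ≤ 2 := by nlinarith
  have h2 : -2 ≤ p := by nlinarith
  have h3 : q ≤ 2 := by nlinarith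
  have h4 : -2 ≤ q := by nlinarith
  have two : ∀ x y : Fin 8 → ℤ, 2 • x = 2 • y → x = y := by
    intro x y hxy
    funext i
    have := congrFun hxy i
    simp only [Pi.smul_apply, nsmul_eq_mul, Nat.cast_ofNat] at this
    omega
  have hc : (p = 2 ∧ q = 0) ∨ (p = -2 ∧ q = 0) ∨ (p = 0 ∧ q = 2) ∨ (p = 0 ∧ q = -2) := by
    clear hp hq h
    interval_cases p <;> interval_cases q <;> simp_all
  rcases hc with ⟨rfl, rfl⟩ | ⟨rfl, rfl⟩ | ⟨rfl, rfl⟩ | ⟨rfl, rfl⟩
  · left
    apply two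
    rw [h, zero_smul, add_zero]
    rfl
  · right; left
    apply two
    rw [h, zero_smul, add_zero, smul_neg, neg_smul]
    rfl
  · right; right; left
    apply two
    rw [h, zero_smul, zero_add]
    rfl
  · right; right; right
    apply two
    rw [h, zero_smul, zero_add, smul_neg, neg_smul]
    rfl

theorem rr_neg {a : Fin 8 → ℤ} (ha : Rt a) (hn : Rt (-a)) : rr (-a) = rr a := by
  refine act_ext fun x => ?_
  rw [act_rr ha, act_rr hn, map_neg, bf_neg_right, bf_neg_right, neg_smul, neg_smul, smul_neg, smul_neg, neg_neg, neg_neg]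

theorem rr_w8 {a : Fin 8 → ℤ} (ha : Rt a) : rr (act w8 a) = rr a := by
  refine act_ext fun x => ?_
  rw [act_rr ha, act_rr (w8_root ha), w8_sq, bf_neg_right, neg_smul, smul_neg, neg_neg]
  abel

theorem neg_root {a : Fin 8 → ℤ} (ha : Rt a) : Rt (-a) := ha.neg

theorem rr_of_mem {a b : Fin 8 → ℤ} (hb : Rt b) (h : a = b ∨ a = -b ∨ a = act w8 b ∨ a = -act w8 b) : rr a = rr b := by
  rcases h with h | h | h | h <;> rw [h]
  · exact rr_neg hb (neg_root hb)
  · exact rr_w8 hb
  · rw [rr_neg (w8_root hb) (neg_root (w8_root hb)), rr_w8 hb]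

theorem rr_sq {a : Fin 8 → ℤ} (ha : Rt a) : rr a * rr a = 1 := by
  refine act_ext fun x => ?_
  rw [act_mul, act_one, act_rr ha, act_rr ha]
  simp only [bf_sub_left, bf_smul_left, bf_self ha, bf_self_w8, bf_w8_left, w8_sq, bf_neg_right]
  module

theorem act_rr_self {a : Fin 8 → ℤ} (ha : Rt a) : act (rr a) a = -a := by
  rw [act_rr ha, bf_self ha, bf_self_w8]
  module

theorem act_rr_w8 {a : Fin 8 → ℤ} (ha : Rt a) : act (rr a) (act w8 a) = -act w8 a := by
  rw [act_rr ha, bf_w8_w8, bf_self ha, bf_w8_left, bf_self_w8]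
  module

/-- `r_b a` -/
theorem act_rr_left {a b : Fin 8 → ℤ} (hb : Rt b) :
    act (rr b) a = a - (bf a b • b + bf a (act w8 b) • act w8 b) := by
  rw [act_rr hb]
  module

/-- `r_a r_b a` -/
theorem act_rr_rr {a b : Fin 8 → ℤ} (ha : Rt a) (hb : Rt b) :
    act (rr a) (act (rr b) a) =
      (bf a b ^ 2 + bf a (act w8 b) ^ 2 - 1) • a - (bf a b • b + bf a (act w8 b) • act w8 b) := by
  rw [act_rr_left hb, act_rr ha]
  have h1 : bf (a - (bf a b • b + bf a (act w8 b) • act w8 b)) a = 2 - (bf a b ^ 2 + bf a (act w8 b) ^ 2) := by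
    rw [bf_sub_left, bf_add_left, bf_smul_left, bf_smul_left, bf_self ha, bf_comm b a, bf_comm (act w8 b) a]
    ring
  have h2 : bf (a - (bf a b • b + bf a (act w8 b) • act w8 b)) (act w8 a) = 0 := by
    rw [bf_sub_left, bf_add_left, bf_smul_left, bf_smul_left, bf_self_w8, bf_w8_w8, bf_comm b (act w8 a), bf_w8_left,
      bf_comm b a]
    ring
  rw [h1, h2]
  module

/-- orthogonality from commuting reflections -/
theorem orth_of_comm {a b : Fin 8 → ℤ} (ha : Rt a) (hb : Rt b) (h1 : rr a * rr b ≠ 1) (h2 : (rr a * rr b) ^ 2 = 1) :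
    bf a b = 0 ∧ bf a (act w8 b) = 0 := by
  have hc : rr a * rr b = rr b * rr a := by
    have h3 : (rr a * rr b) * (rr a * rr b) = 1 := by rw [← pow_two]; exact h2
    calc rr a * rr b = (rr a * rr b) * (rr a * rr b) * (rr b * rr a) * (rr a * rr a) * (rr b * rr b)⁻¹ := by
          rw [rr_sq ha, rr_sq hb, mul_one, inv_one, mul_one]
          rw [mul_assoc (rr a * rr b) (rr a * rr b), mul_assoc (rr a) (rr b) (rr b * rr a), ← mul_assoc (rr b) (rr b),
            rr_sq hb, one_mul, rr_sq ha, mul_one]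
      _ = rr b * rr a := by rw [h3, one_mul, rr_sq ha, rr_sq hb, mul_one, inv_one, mul_one]
  have h4 : act (rr a) (act (rr b) a) = act (rr b) (act (rr a) a) := by
    rw [← act_mul, ← act_mul, hc]
  rw [act_rr_rr ha hb, act_rr_self ha, map_neg, act_rr_left hb] at h4
  set p := bf a b with hp
  set q := bf a (act w8 b) with hq
  have h5 : (p ^ 2 + q ^ 2) • a = (2 : ℤ) • (p • b + q • act w8 b) := by
    have := sub_eq_zero.2 h4
    rw [← sub_eq_zero, ← this]
    module
  have h6 : (p ^ 2 + q ^ 2) * p = 2 * (p * 2) := by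
    have := congrArg (fun x => bf x b) h5
    simp only [bf_smul_left, bf_add_left, bf_self hb, bf_w8_left, bf_self_w8] at this
    rw [← hp] at this
    linarith
  have h7 : (p ^ 2 + q ^ 2) * q = 2 * (q * 2) := by
    have := congrArg (fun x => bf x (act w8 b)) h5
    simp only [bf_smul_left, bf_add_left, bf_w8_w8, bf_self hb, bf_self_w8] at this
    rw [← hq] at this
    linarith
  by_contra hne
  have h8 : p ^ 2 + q ^ 2 = 4 := by
    by_cases hp0 : p = 0
    · have hq0 : q ≠ 0 := fun h => hne ⟨hp0, h⟩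
      have : (p ^ 2 + q ^ 2 - 4) * q = 0 := by linarith
      rcases mul_eq_zero.1 this with h | h
      · linarith
      · exact absurd h hq0
    · have : (p ^ 2 + q ^ 2 - 4) * p = 0 := by linarith
      rcases mul_eq_zero.1 this with h | h
      · linarith
      · exact absurd h hp0
  have h9 : 2 • a = p • b + q • act w8 b := by
    rw [h8] at h5
    funext i
    have := congrFun h5 i
    simp only [Pi.smul_apply, Pi.add_apply, smul_eq_mul, nsmul_eq_mul, Nat.cast_ofNat] at this ⊢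
    linarith
  apply h1
  rw [rr_of_mem hb (four_smul h9 h8), rr_sq hb]

/-- the braid relation gives `|H(a,b)| = 1` -/
theorem norm_of_braid {a b : Fin 8 → ℤ} (ha : Rt a) (hb : Rt b) (h1 : rr a * rr b ≠ 1) (h3 : (rr a * rr b) ^ 3 = 1) :
    bf a b ^ 2 + bf a (act w8 b) ^ 2 = 1 := by
  have hc : rr a * rr b * rr a = rr b * rr a * rr b := by
    have h4 : (rr a * rr b * rr a) * (rr b * rr a * rr b) = 1 := by
      rw [← h3, pow_three]
      simp only [mul_assoc]
    have h5 : (rr b * rr a * rr b) * (rr b * rr a * rr b) = 1 := by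
      calc (rr b * rr a * rr b) * (rr b * rr a * rr b) = rr b * (rr a * (rr b * rr b) * rr a) * rr b := by
            simp only [mul_assoc]
        _ = 1 := by rw [rr_sq hb, mul_one, rr_sq ha, mul_one, rr_sq hb]
    calc rr a * rr b * rr a = (rr a * rr b * rr a) * ((rr b * rr a * rr b) * (rr b * rr a * rr b)) := by rw [h5, mul_one]
      _ = rr b * rr a * rr b := by rw [← mul_assoc, h4, one_mul]
  have h4 : act (rr a) (act (rr b) (act (rr a) a)) = act (rr b) (act (rr a) (act (rr b) a)) := by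
    rw [← act_mul, ← act_mul, ← act_mul, ← act_mul, hc]
  rw [act_rr_self ha, map_neg, map_neg, act_rr_rr ha hb, map_sub, map_smul, act_rr_left hb, map_add, map_smul, map_smul,
    act_rr_self hb, act_rr_w8 hb] at h4
  set p := bf a b with hp
  set q := bf a (act w8 b) with hq
  have h5 : (p ^ 2 + q ^ 2 - 1) • ((2 : ℤ) • a - (p • b + q • act w8 b)) = 0 := by
    have := sub_eq_zero.2 h4.symm
    rw [← this]
    module
  by_contra hne
  have h6 : (2 : ℤ) • a - (p • b + q • act w8 b) = 0 := by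
    rcases smul_eq_zero.1 h5 with h | h
    · exact absurd (by linarith) hne
    · exact h
  have h7 : (2 : ℤ) • a = p • b + q • act w8 b := sub_eq_zero.1 h6
  have h8 : p ^ 2 + q ^ 2 = 4 := by
    have := congrArg (fun x => bf x a) h7
    simp only [bf_smul_left, bf_add_left, bf_self ha, bf_comm b a, bf_comm (act w8 b) a] at this
    rw [← hp, ← hq] at this
    linarith
  have h9 : 2 • a = p • b + q • act w8 b := by
    rw [← h7]
    rfl
  apply h1
  rw [rr_of_mem hb (four_smul h9 h8), rr_sq hb]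

/-- one rescaling -/
theorem exists_unit {a b : Fin 8 → ℤ} (h : bf a b ^ 2 + bf a (act w8 b) ^ 2 = 1) :
    ∃ b', (b' = b ∨ b' = -b ∨ b' = act w8 b ∨ b' = -act w8 b) ∧ bf a b' = -1 ∧ bf a (act w8 b') = 0 := by
  have h1 : bf a b ≤ 1 := by nlinarith
  have h2 : -1 ≤ bf a b := by nlinarith
  have h3 : bf a (act w8 b) ≤ 1 := by nlinarith
  have h4 : -1 ≤ bf a (act w8 b) := by nlinarith
  have hc : (bf a b = 1 ∧ bf a (act w8 b) = 0) ∨ (bf a b = -1 ∧ bf a (act w8 b) = 0) ∨
      (bf a b = 0 ∧ bf a (act w8 b) = 1) ∨ (bf a b = 0 ∧ bf a (act w8 b) = -1) := by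
    generalize bf a b = p at *
    generalize bf a (act w8 b) = q at *
    interval_cases p <;> interval_cases q <;> simp_all
  rcases hc with ⟨h5, h6⟩ | ⟨h5, h6⟩ | ⟨h5, h6⟩ | ⟨h5, h6⟩
  · exact ⟨-b, Or.inr (Or.inl rfl), by rw [bf_neg_right, h5], by rw [map_neg, bf_neg_right, h6, neg_zero]⟩
  · exact ⟨b, Or.inl rfl, h5, h6⟩
  · exact ⟨-act w8 b, Or.inr (Or.inr (Or.inr rfl)), by rw [bf_neg_right, h6], by rw [map_neg, w8_sq, neg_neg, h5]⟩
  · exact ⟨act w8 b, Or.inr (Or.inr (Or.inl rfl)), h6, by rw [w8_sq, bf_neg_right, h5, neg_zero]⟩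

/-- orthogonality is kept by rescaling -/
theorem orth_unit {a b a' b' : Fin 8 → ℤ} (ha : a' = a ∨ a' = -a ∨ a' = act w8 a ∨ a' = -act w8 a)
    (hb : b' = b ∨ b' = -b ∨ b' = act w8 b ∨ b' = -act w8 b) (h1 : bf a b = 0) (h2 : bf a (act w8 b) = 0) :
    bf a' b' = 0 ∧ bf a' (act w8 b') = 0 := by
  rcases ha with h | h | h | h <;> rw [h] <;> rcases hb with h' | h' | h' | h' <;> rw [h'] <;>
    simp only [bf_neg_left, bf_neg_right, bf_w8_left, w8_sq, h1, h2, map_neg, neg_zero, neg_neg, and_self]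

/-- the four unit multiples of a root do not change under rescaling -/
theorem units_eq {a b : Fin 8 → ℤ} (h : b = a ∨ b = -a ∨ b = act w8 a ∨ b = -act w8 a) :
    ({b, -b, act w8 b, -act w8 b} : Set (Fin 8 → ℤ)) = {a, -a, act w8 a, -act w8 a} := by
  ext x
  simp only [Set.mem_insert_iff, Set.mem_singleton_iff]
  rcases h with h | h | h | h <;> rw [h] <;> simp only [map_neg, w8_sq, neg_neg] <;>
    generalize act w8 a = c <;> generalize -a = a' <;> generalize -c = c' <;> tauto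

/-- **Piece R.** -/
theorem rescale (a : Fin 4 → Fin 8 → ℤ) (ha : ∀ i, Rt (a i)) (h1 : ∀ i j, i ≠ j → rr (a i) * rr (a j) ≠ 1)
    (h3 : ∀ i j, Adj i j → (rr (a i) * rr (a j)) ^ 3 = 1)
    (h2 : ∀ i j, i ≠ j → ¬ Adj i j → (rr (a i) * rr (a j)) ^ 2 = 1) :
    ∃ b : Fin 4 → Fin 8 → ℤ, (∀ i, b i = a i ∨ b i = -a i ∨ b i = act w8 (a i) ∨ b i = -act w8 (a i)) ∧
      (∀ i, rr (b i) = rr (a i)) ∧ Quad b := by
  have hch : ∀ i, ∃ b', (b' = a i ∨ b' = -a i ∨ b' = act w8 (a i) ∨ b' = -act w8 (a i)) ∧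
      (i = 1 → b' = a 1) ∧ (i ≠ 1 → bf (a 1) b' = -1 ∧ bf (a 1) (act w8 b') = 0) := by
    intro i
    by_cases hi : i = 1
    · subst hi
      exact ⟨a 1, Or.inl rfl, fun _ => rfl, fun h => absurd rfl h⟩
    · obtain ⟨b', h4, h5, h6⟩ := exists_unit (norm_of_braid (ha 1) (ha i) (h1 1 i (Ne.symm hi))
        (h3 1 i ⟨Ne.symm hi, Or.inl rfl⟩))
      exact ⟨b', h4, fun h => absurd h hi, fun _ => ⟨h5, h6⟩⟩
  choose b hb hb1 hb2 using hch
  have hb1' : b 1 = a 1 := hb1 1 rfl
  have hroot : ∀ i, Rt (b i) := by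
    intro i
    rcases hb i with h | h | h | h <;> rw [h]
    · exact ha i
    · exact neg_root (ha i)
    · exact w8_root (ha i)
    · exact neg_root (w8_root (ha i))
  have hna : ∀ i j, i ≠ j → ¬ Adj i j → bf (b i) (b j) = 0 ∧ bf (b i) (act w8 (b j)) = 0 := by
    intro i j hij hadj
    obtain ⟨h4, h5⟩ := orth_of_comm (ha i) (ha j) (h1 i j hij) (h2 i j hij hadj)
    exact orth_unit (hb i) (hb j) h4 h5
  have had : ∀ i j, Adj i j → bf (b i) (b j) = -1 ∧ bf (b i) (act w8 (b j)) = 0 := by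
    rintro i j ⟨hij, hi | hj⟩
    · subst hi
      rw [hb1']
      exact hb2 j (Ne.symm hij)
    · subst hj
      obtain ⟨h4, h5⟩ := hb2 i hij
      rw [hb1']
      refine ⟨by rw [bf_comm]; exact h4, ?_⟩
      rw [bf_comm, bf_w8_left, h5, neg_zero]
  refine ⟨b, hb, fun i => rr_of_mem (ha i) (hb i), hroot, fun i j hij => ?_, fun i j => ?_⟩
  · by_cases h : Adj i j
    · rw [if_pos h]
      exact (had i j h).1
    · rw [if_neg h]
      exact (hna i j hij h).1
  · by_cases hij : i = j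
    · subst hij
      exact bf_self_w8 _
    · by_cases h : Adj i j
      · exact (had i j h).2
      · exact (hna i j hij h).2

end Cfsg.Agent.H799.EE
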